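import Cfsg.Agent.Omega12.Clauses

/-!
Clauses particular to a twelve-dimensional space of minus type (helper70).
-/

set_option autoImplicit false
open Cfsg

namespace Cfsg.Agent.Omega12

variable {F : Type*} [Field F] [Fintype F] {n : ℕ}

/-- In minus type totally singular subspaces have less than half the dimension. -/
theorem two_mul_finrank_lt {Q : (Fin n → F) → F} (hQ : Cfsg.Geo.IsNondegenerateQuadraticForm Q)
    (hminus : ¬ Cfsg.Geo.IsPlusTypeOn Q ⊤) (hn : Even n) {U : Submodule F (Fin n → F)}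
    (hU : Cfsg.Geo.IsTotallySingularQuad Q U) : 2 * Module.finrank F U + 1 ≤ n := by
  have h := two_mul_finrank_le hQ hU
  by_contra hc
  refine hminus ⟨U, le_top, hU, ?_⟩
  rw [finrank_top, Module.finrank_fintype_fun_eq_card, Fintype.card_fin]
  omega

/-- In minus type the two halves of an orthogonal pair are not isometric. -/
theorem half_isMaximalIn (h11 : 11 ≤ n) {Q : (Fin n → F) → F}
    (hQ : Cfsg.Geo.IsNondegenerateQuadraticForm Q) (hminus : ¬ Cfsg.Geo.IsPlusTypeOn Q ⊤)
    {W : Submodule F (Fin n → F)} (hW : Cfsg.Geo.IsNondegenerateOn (QuadraticMap.polar Q) W)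
    (hdim : 2 * Module.finrank F W = n) (hev : Even (Module.finrank F W)) :
    Cfsg.Geo.IsMaximalIn (Cfsg.Geo.omegaGL Q)
      (Cfsg.Geo.subspaceStabilizer W ⊓ Cfsg.Geo.omegaGL Q) := by
  obtain ⟨Qf, rfl, hnd⟩ := OrthStab.exists_form hQ
  have hW0 : W ≠ ⊥ := ne_bot_of_finrank (by omega)
  have hW1 : W ≠ ⊤ := fun e => by
    rw [e, finrank_top, Module.finrank_fintype_fun_eq_card, Fintype.card_fin] at hdim
    omega
  refine OrthStab.subspace_isMaximalIn hnd hW hW0 hW1 (by simpa using h11)
    (fun W' hp _ hiso => hminus (OrthStab.isPlusTypeOn_top hp hev hiso))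
    fun _ U hU2 _ _ hor => ?_
  rcases hor with rfl | ⟨-, hsum⟩
  · omega
  · rw [Fintype.card_fin] at hsum; omega

end Cfsg.Agent.Omega12
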