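import Cfsg.Agent.MaxSub.OrthVectorGL
import Cfsg.Agent.MaxSub.OrthStabGL
import Cfsg.Agent.MaxSub.LagrangianOrth
import Cfsg.Agent.ODec35.Main
import Cfsg.Agent.OrthDec99.Main
import Cfsg.Agent.ExtFieldMax.Orth.Main
import Cfsg.Agent.Omega10.UnitaryField
import Cfsg.Agent.MaxSub.SubfieldQuadGL
import Cfsg.Agent.S5704

/-!
Maximality of the geometric subgroups of `Ω` in dimension twelve: the clauses, each stated for
ambient dimensions that include twelve (helper70).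
-/

set_option autoImplicit false
open Cfsg

namespace Cfsg.Agent.Omega12

variable {F : Type*} [Field F] [Fintype F] {n : ℕ}

theorem ne_bot_of_finrank {W : Submodule F (Fin n → F)} (h : 0 < Module.finrank F W) : W ≠ ⊥ :=
  fun e => by rw [e, finrank_bot] at h; omega

/-- A totally singular subspace has at most half the dimension. -/
theorem two_mul_finrank_le {Q : (Fin n → F) → F}
    (hQ : Cfsg.Geo.IsNondegenerateQuadraticForm Q) {U : Submodule F (Fin n → F)}
    (hU : Cfsg.Geo.IsTotallySingularQuad Q U) : 2 * Module.finrank F U ≤ n := by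
  obtain ⟨Qf, rfl, hnd⟩ := OrthStab.exists_form hQ
  simpa using OrthStab.two_mul_finrank_le hnd hU

/-- Totally singular subspaces, except the next-to-maximal ones. -/
theorem singular_isMaximalIn (h5 : 5 ≤ n) {Q : (Fin n → F) → F}
    (hQ : Cfsg.Geo.IsNondegenerateQuadraticForm Q) {W : Submodule F (Fin n → F)} (hW0 : W ≠ ⊥)
    (hW : Cfsg.Geo.IsTotallySingularQuad Q W)
    (hdim : ∀ U : Submodule F (Fin n → F), Cfsg.Geo.IsTotallySingularQuad Q U →
      Module.finrank F U = Module.finrank F W + 1 → 2 * Module.finrank F U + 1 ≤ n) :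
    Cfsg.Geo.IsMaximalIn (Cfsg.Geo.omegaGL Q)
      (Cfsg.Geo.subspaceStabilizer W ⊓ Cfsg.Geo.omegaGL Q) := by
  obtain ⟨Qf, rfl, hnd⟩ := OrthStab.exists_form hQ
  have hfin : Module.finrank F (Fin n → F) = n := by simp
  refine OrthStab.singular_isMaximalIn hnd (by omega) hW hW0 fun u hu huW hperp => ?_
  have hs := OrthStab.singular_sup hW hu hperp
  have h1 := OrthStab.finrank_sup_singleton huW
  have := hdim _ hs h1
  omega

/-- Non-degenerate subspaces of dimension other than half. -/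
theorem subspace_isMaximalIn (h11 : 11 ≤ n) {Q : (Fin n → F) → F}
    (hQ : Cfsg.Geo.IsNondegenerateQuadraticForm Q) {W : Submodule F (Fin n → F)}
    (hW : Cfsg.Geo.IsNondegenerateOn (QuadraticMap.polar Q) W) (hW0 : W ≠ ⊥)
    (hdim : 2 * Module.finrank F W ≠ n) (hlt : Module.finrank F W < n)
    (hex : Fintype.card F ≤ 3 → Module.finrank F W + 2 ≠ n ∧
      (Module.finrank F W = 2 → ¬ Cfsg.Geo.IsPlusTypeOn Q W)) :
    Cfsg.Geo.IsMaximalIn (Cfsg.Geo.omegaGL Q)
      (Cfsg.Geo.subspaceStabilizer W ⊓ Cfsg.Geo.omegaGL Q) := by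
  obtain ⟨Qf, rfl, hnd⟩ := OrthStab.exists_form hQ
  have hW1 : W ≠ ⊤ := fun e => by
    rw [e, finrank_top, Module.finrank_fintype_fun_eq_card, Fintype.card_fin] at hlt
    omega
  refine OrthStab.subspace_isMaximalIn hnd hW hW0 hW1 (by simpa using h11)
    (fun W' hp he _ => hdim (by
      have := Submodule.finrank_add_eq_of_isCompl hp.compl
      rw [Module.finrank_fintype_fun_eq_card, Fintype.card_fin] at this
      omega))
    fun hc U hU2 hUn hpl hor => ?_
  obtain ⟨h1, h2⟩ := hex (by rwa [Nat.card_eq_fintype_card] at hc)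
  rcases hor with rfl | ⟨-, hsum⟩
  · exact h2 hU2 hpl
  · rw [Fintype.card_fin] at hsum; omega

/-- Non-singular points in characteristic two. -/
theorem vector_isMaximalIn (h7 : 7 ≤ n) {Q : (Fin n → F) → F}
    (hQ : Cfsg.Geo.IsNondegenerateQuadraticForm Q) {v : Fin n → F} (hv : Q v ≠ 0) :
    Cfsg.Geo.IsMaximalIn (Cfsg.Geo.omegaGL Q)
      (Cfsg.Geo.subspaceStabilizer (Submodule.span F {v}) ⊓ Cfsg.Geo.omegaGL Q) := by
  obtain ⟨Qf, rfl, hnd⟩ := OrthStab.exists_form hQ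
  exact OrthStab.vector_isMaximalIn hnd (by simpa using h7) hv

/-- Orthonormal frames over a prime field. -/
theorem lines_isMaximalIn (h10 : 10 ≤ n) {Q : (Fin n → F) → F}
    (hQ : Cfsg.Geo.IsNondegenerateQuadraticForm Q) {p t : ℕ} (hp : p.Prime) (ho : Odd p)
    (hF : Fintype.card F = p) {D : Fin t → Submodule F (Fin n → F)}
    (hD : Cfsg.Geo.IsOrthogonalMDecomposition Q 1 D) :
    Cfsg.Geo.IsMaximalIn (Cfsg.Geo.omegaGL Q)
      (Cfsg.Geo.decompositionStabilizer D ⊓ Cfsg.Geo.omegaGL Q) := by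
  obtain ⟨Qf, rfl, hnd⟩ := OrthStab.exists_form hQ
  exact ODec35.lines_isMaximalIn (ODec24.primeOdd_of_card (hF ▸ hp) (hF ▸ ho)) hnd
    (Or.inr (by simpa using h10)) hD

/-- Orthogonal decompositions into isometric members of dimension at least two. -/
theorem decomposition_isMaximalIn (h10 : 10 ≤ n) {Q : (Fin n → F) → F}
    (hQ : Cfsg.Geo.IsNondegenerateQuadraticForm Q) {t k : ℕ} (hk : 2 ≤ k)
    {D : Fin t → Submodule F (Fin n → F)} (hD : Cfsg.Geo.IsOrthogonalMDecomposition Q k D)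
    (hthree : k = 2 → Fintype.card F ≠ 3) (hk3 : k = 3 → Odd (Fintype.card F) ∧ 4 ≤ Fintype.card F)
    (hplus : (∀ i, Cfsg.Geo.IsPlusTypeOn Q (D i)) →
      (k = 2 → 7 ≤ Fintype.card F) ∧ (k = 4 → Fintype.card F ≠ 2)) :
    Cfsg.Geo.IsMaximalIn (Cfsg.Geo.omegaGL Q)
      (Cfsg.Geo.decompositionStabilizer D ⊓ Cfsg.Geo.omegaGL Q) := by
  obtain ⟨Qf, rfl, hnd⟩ := OrthStab.exists_form hQ
  exact OrthDec99.isMaximalIn_ten hnd (by simpa using h10) hk hD hthree hk3 hplus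

/-- Pairs of complementary totally singular subspaces of even dimension. -/
theorem singular_pair_isMaximalIn (hn : 10 ≤ n) {Q : (Fin n → F) → F}
    (hQ : Cfsg.Geo.IsNondegenerateQuadraticForm Q) {k : ℕ} (hk : 2 * k = n) (hke : Even k)
    {D : Fin 2 → Submodule F (Fin n → F)} (hD : Cfsg.Geo.IsMDecomposition k D)
    (hts : ∀ i, Cfsg.Geo.IsTotallySingularQuad Q (D i)) :
    Cfsg.Geo.IsMaximalIn (Cfsg.Geo.omegaGL Q)
      (Cfsg.Geo.decompositionStabilizer D ⊓ Cfsg.Geo.omegaGL Q) := by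
  obtain ⟨Q, rfl, hf, hp⟩ := LagPair.exists_setup hQ hD hts
  have hQs : ∀ i, ∀ x ∈ D i, Q x = 0 := hts
  obtain ⟨hEG, hgen⟩ := LagPair.omega_facts hf hp (by omega) hQs
  have hG : Geo.omegaGL ⇑Q ≤ MaxSub.isom (QuadraticMap.polar ⇑Q) :=
    fun g hg => (LagPair.omega_isom hg).2
  have hEE : ∀ i, ∀ a ∈ D i, ∀ b ∈ D i,
      LagPair.E (QuadraticMap.polar ⇑Q) (-1 : F) a b ∈ Geo.omegaGL ⇑Q :=
    Fin.forall_fin_two.mpr
      ⟨fun a ha b hb => hEG a b (hQs 0 a ha) (hQs 0 b hb) (hp.iso₁ a ha b hb),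
       fun a ha b hb => hEG a b (hQs 1 a ha) (hQs 1 b hb) (hp.iso₂ a ha b hb)⟩
  obtain ⟨w, hwG, hw0, hw1⟩ := LagPair.exists_swap_orth hf hp hke hG (hEE 0) (hEE 1)
  refine LagPair.isMaximalIn_of_cores hf (by omega) hp hG (fun v hv u hu hvu =>
    ⟨hEG v u (hQs 0 v hv) (hQs 1 u hu) hvu,
     hEG u v (hQs 1 u hu) (hQs 0 v hv) (LagPair.eq_zero_comm hf hvu)⟩) ?_ hwG hw0 hw1
    fun M hMK hE hE' hwM h hh hcases => hgen M fun v u hv hu hvu => ?_
  · obtain ⟨a, ha, b, hb, y, hy, a', ha', ha'0, hEy⟩ := LagPair.E_notMem hf hp (by omega)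
    refine ⟨_, hEE 0 a ha b hb, fun hmem => ?_⟩
    obtain ⟨σ, hσ⟩ := hmem
    have h1 : y + a' ∈ D (σ 1) := by
      rw [← hEy, ← hσ 1, Matrix.toLin'_apply']
      exact Submodule.mem_map_of_mem (f := Matrix.mulVecLin _) hy
    rcases Fin.exists_fin_two.mp ⟨σ 1, rfl⟩ with hc | hc <;> rw [hc] at h1
    · have hy0 : y = 0 := hp.eq_zero (by simpa using sub_mem h1 ha') hy
      rw [hy0, Matrix.mulVec_zero, zero_add] at hEy
      exact ha'0 hEy.symm
    · exact ha'0 (hp.eq_zero ha' (by simpa using sub_mem h1 hy))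
  · have hMQ : ∀ g ∈ M, ∀ x, Q (Matrix.mulVec (g : Matrix (Fin n) (Fin n) F) x) = Q x :=
      fun g hg => (LagPair.omega_isom (hMK hg)).1
    have hMi : ∀ g ∈ M, g ∈ MaxSub.isom (QuadraticMap.polar ⇑Q) := fun g hg => hG (hMK hg)
    have hd : Module.finrank F (D 0) = Module.finrank F (D 1) := by rw [hp.fin₁, hp.fin₂]
    have hsw : ∀ (W W' : Submodule F (Fin n → F)),
        (∀ x ∈ W, Matrix.mulVec (w : Matrix (Fin n) (Fin n) F) x ∈ W') →
        Module.finrank F W' ≤ Module.finrank F W →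
        (∀ a ∈ W, ∀ b ∈ W, QuadraticMap.polar ⇑Q a b = 0) →
        (∀ a ∈ W, ∀ b ∈ W, LagPair.E (QuadraticMap.polar ⇑Q) (-1 : F) a b ∈ M) →
        ∀ a ∈ W', ∀ b ∈ W', LagPair.E (QuadraticMap.polar ⇑Q) (-1 : F) a b ∈ M := by
      intro W W' hmap hdim hW hT a ha b hb
      have ha' := LagPair.inv_mem_of_forall hmap hdim a ha
      have hb' := LagPair.inv_mem_of_forall hmap hdim b hb
      have h := mul_mem (mul_mem hwM (hT _ ha' _ hb')) (inv_mem hwM)
      rwa [LagPair.E_conj hf (hG hwG) (hW _ ha' _ ha') (hW _ hb' _ hb') (hW _ ha' _ hb'),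
        MaxSub.mulVec_inv_mulVec, MaxSub.mulVec_inv_mulVec] at h
    rcases hcases with ⟨h1, hbad⟩ | ⟨h1, hbad⟩
    · have h00 := LagPair.E_mem_of_not_fix hf hp (by omega) (hQs 1) (hQs 0) hMQ hMi hE hh h1 hbad
      exact LagPair.E_mem_of_all hf hp hQs hMQ h00 (hsw _ _ hw0 hd.ge hp.iso₁ h00) hE hwM
        (hG hwG) hw1 hv hu hvu
    · have h11 := LagPair.E_mem_of_not_fix (D := ![D 1, D 0]) hf hp.symm (by omega) (hQs 0) (hQs 1)
        hMQ hMi hE' hh h1 hbad
      exact LagPair.E_mem_of_all hf hp hQs hMQ (hsw _ _ hw1 hd.le hp.iso₂ h11) h11 hE hwM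
        (hG hwG) hw1 hv hu hvu

/-- Normalisers of self-adjoint fields of matrices. -/
theorem extField_isMaximalIn {Q : (Fin n → F) → F}
    (hQ : Cfsg.Geo.IsNondegenerateQuadraticForm Q) (hodd : Odd (Fintype.card F)) {r : ℕ}
    (hr : r.Prime) (h4 : 4 * r ≤ n) (h6 : r = 2 → 4 * r < n)
    {K : Subalgebra F (Matrix (Fin n) (Fin n) F)} (hK : Cfsg.Geo.IsFieldSubalgebra r K)
    (hsa : Cfsg.Geo.IsSelfAdjointFor (QuadraticMap.polar Q) K) :
    Cfsg.Geo.IsMaximalIn (Cfsg.Geo.omegaGL Q)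
      (Cfsg.Geo.subalgebraNormalizer K ⊓ Cfsg.Geo.omegaGL Q) := by
  obtain ⟨Qf, rfl, hnd⟩ := OrthStab.exists_form hQ
  have h2 : (2 : F) ≠ 0 := Ring.two_ne_zero fun h => by
    rw [Nat.odd_iff, FiniteField.even_card_of_char_two h] at hodd
    exact absurd hodd (by decide)
  exact ExtFieldMax.Orth.isMaximalIn_orth hnd h2 hK hr hsa (by rwa [Fintype.card_fin])
    (fun h => by rw [Fintype.card_fin]; exact h6 h)

/-- Subfield groups. -/
theorem subfield_isMaximalIn (h10 : 10 ≤ n) {Q : (Fin n → F) → F}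
    (hQ : Cfsg.Geo.IsNondegenerateQuadraticForm Q) {F₀ : Subfield F} {r : ℕ} (hr : r.Prime)
    (hcard : Fintype.card F = Nat.card F₀ ^ r) {P : Matrix.GeneralLinearGroup (Fin n) F} {ζ : F}
    (hζ : ζ ≠ 0) (hP : Cfsg.Geo.IsQuadFormRationalStructure (fun v : Fin n → F => ζ * Q v) F₀ P) :
    Cfsg.Geo.IsMaximalIn (Cfsg.Geo.omegaGL Q)
      (Cfsg.Geo.subfieldSubgroup F₀ P ⊓ Cfsg.Geo.omegaGL Q) := by
  obtain ⟨Qf, rfl, hnd⟩ := OrthStab.exists_form hQ
  have hcoe : (fun v : Fin n → F => ζ * Qf v) = ⇑(ζ • Qf) := rfl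
  rw [← SubfieldQuad.omegaGL_smul (⇑Qf) hζ, hcoe]
  rw [hcoe] at hP
  refine SubfieldQuad.isMaximal_subfield_ten (ζ • Qf) (fun u hu => hnd u fun x => ?_)
    (by simpa using h10) hr (by rw [Nat.card_eq_fintype_card]; exact hcard) hP
  have := hu x
  simp [QuadraticMap.polar] at this
  have h' : ζ * QuadraticMap.polar Qf u x = 0 := by
    rw [QuadraticMap.polar]; linear_combination this
  exact (mul_eq_zero.mp h').resolve_left hζ

open Cfsg.Agent.S5704 in
/-- Tensor products of two symplectic spaces. -/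
theorem tensor_isMaximalIn {Q : (Fin n → F) → F}
    (hQ : Cfsg.Geo.IsNondegenerateQuadraticForm Q) (n₁ n₂ : ℕ) (ha : 2 ≤ n₁) (h12 : n₁ + 2 ≤ n₂)
    (hb : 6 ≤ n₂) (hq : 3 ≤ Fintype.card F) (e : (Fin n) ≃ Fin n₁ × Fin n₂)
    (P : Matrix.GeneralLinearGroup (Fin n) F) (f₁ : (Fin n₁ → F) → (Fin n₁ → F) → F)
    (f₂ : (Fin n₂ → F) → (Fin n₂ → F) → F) (hf₁ : Cfsg.Geo.IsSymplecticForm f₁)
    (hf₂ : Cfsg.Geo.IsSymplecticForm f₂)
    (hT : Cfsg.Geo.IsTensorFormStructure id (QuadraticMap.polar Q) f₁ f₂ e P)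
    (hpure : (∀ (x₁ : Fin n₁ → F) (x₂ : Fin n₂ → F),
      Q (Matrix.mulVec (P : Matrix (Fin n) (Fin n) F)
        ((fun a : Fin n₁ × Fin n₂ => x₁ a.1 * x₂ a.2) ∘ e)) = 0)) :
    Cfsg.Geo.IsMaximalIn (Cfsg.Geo.omegaGL Q)
      (Cfsg.Geo.tensorProductSubgroup n₁ n₂ e P ⊓ Cfsg.Geo.omegaGL Q) := by
  classical
  obtain ⟨Qf, rfl, hnd⟩ := OrthStab.exists_form hQ
  obtain ⟨c, hc, hT⟩ := hT
  have hb₁ := hf₁.bilinear
  have hb₂ := hf₂.bilinear
  let g₁ : TensorSp.SForm F n₁ :=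
    { form := c • LinearMap.mk₂ F f₁ hb₁.add_left hb₁.smul_left hb₁.add_right hb₁.smul_right
      alt := fun v => by simp [hf₁.alternating]
      nd := fun v hv => by
        by_contra h0
        obtain ⟨x, hx⟩ := (hf₁.nondegenerate v h0).2
        exact hx (by simpa [hc] using hv x) }
  let g₂ : TensorSp.SForm F n₂ :=
    { form := LinearMap.mk₂ F f₂ hb₂.add_left hb₂.smul_left hb₂.add_right hb₂.smul_right
      alt := hf₂.alternating
      nd := fun v hv => by
        by_contra h0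
        obtain ⟨x, hx⟩ := (hf₂.nondegenerate v h0).2
        exact hx (hv x) }
  let L : (Fin n₁ × Fin n₂ → F) →ₗ[F] (Fin n → F) :=
    (P : Matrix (Fin n) (Fin n) F).mulVecLin ∘ₗ LinearMap.funLeft F F e
  have hL : ∀ z, L z = (P : Matrix (Fin n) (Fin n) F).mulVec (z ∘ e) := fun z => rfl
  have hemb : ∀ (d : Fin n₂ → F) (x : Fin n₁ → F), L (TensorMax.emb d x) = NotMax.ten e P x d :=
    fun d x => rfl
  let S : TensorSp.TS F n₁ n₂ :=
    { Q := Qf.comp L
      g₁ := g₁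
      g₂ := g₂
      pure := fun d x => hpure x d
      pol := fun d x d' y => by
        show QuadraticMap.polar (Qf ∘ L) _ _ = c * f₁ x y * f₂ d d'
        have h0 : QuadraticMap.polar (Qf ∘ L) (TensorMax.emb d x) (TensorMax.emb d' y) =
            QuadraticMap.polar Qf (L (TensorMax.emb d x)) (L (TensorMax.emb d' y)) := by
          simp [QuadraticMap.polar]
        rw [h0, hemb, hemb]
        exact NotMax.form_ten (σ := RingHom.id F) hT
          (NotMax.eq_formOfGram _ hb₁.add_left hb₁.smul_left hb₁.add_right hb₁.smul_right)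
          (NotMax.eq_formOfGram _ hb₂.add_left hb₂.smul_left hb₂.add_right hb₂.smul_right) x y d d'
      nd := fun u hu => by
        have h1 : L u = 0 := hnd _ fun x => by
          obtain ⟨z, rfl⟩ : ∃ z, L z = x :=
            ⟨((((P⁻¹ : GL (Fin n) F)) : Matrix (Fin n) (Fin n) F).mulVec x) ∘ e.symm, by
              rw [hL, Function.comp_assoc, Equiv.symm_comp_self, Function.comp_id,
                MaxSub.mulVec_inv_mulVec]⟩
          have h2 := hu z
          simpa [QuadraticMap.polar] using h2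
        have h2 : u ∘ e = 0 := MaxSub.mulVec_injective P (by
          show Matrix.mulVec _ _ = Matrix.mulVec _ _
          rw [← hL, h1, Matrix.mulVec_zero])
        funext p
        simpa using congrFun h2 (e.symm p) }
  have hq' : 3 ≤ n₁ ∨ 3 ≤ Nat.card F := by
    rw [Nat.card_eq_fintype_card]; exact Or.inr hq
  obtain ⟨hlt, hmax⟩ := TensorSp.isMaximal S (by omega) (by omega) (by omega) hq'
  have hI := isometryGroup_map e P ⇑Qf ⇑S.Q (fun z => rfl)
  have hΩ : (Geo.omegaGL ⇑S.Q).map (phi e P).toMonoidHom = Geo.omegaGL ⇑Qf := by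
    rw [omegaGL_eq, omegaGL_eq, Subgroup.map_commutator, hI]
  have hinj : Function.Injective (phi e P).toMonoidHom := (phi e P).injective
  have hK : (Geo.kroneckerSubgroup n₁ n₂ F ⊓ Geo.omegaGL ⇑S.Q).map (phi e P).toMonoidHom =
      Geo.tensorProductSubgroup n₁ n₂ e P ⊓ Geo.omegaGL ⇑Qf := by
    rw [Subgroup.map_inf _ _ _ hinj, hΩ, Geo.tensorProductSubgroup, Subgroup.map_map]
    rfl
  rw [← hK, ← hΩ]
  refine ⟨(Subgroup.map_lt_map_iff_of_injective hinj).mpr hlt, fun M h1 h2 => ?_⟩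
  have hM : (M.comap (phi e P).toMonoidHom).map (phi e P).toMonoidHom = M :=
    Subgroup.map_comap_eq_self_of_surjective (phi e P).surjective M
  rcases hmax (M.comap (phi e P).toMonoidHom) (Subgroup.map_le_iff_le_comap.mp h1)
    (by rw [← Subgroup.map_le_map_iff_of_injective hinj, hM]; exact h2) with h | h
  · left; rw [← hM, h]
  · right; rw [← hM, h]

end Cfsg.Agent.Omega12
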